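import Groth.Agent.GalDescX.Twist
import Mathlib.LinearAlgebra.Matrix.ToLin
import Mathlib.LinearAlgebra.Matrix.GeneralLinearGroup.Defs
import Mathlib.LinearAlgebra.Matrix.NonsingularInverse

/-!
Hilbert 90 for the general linear group.
-/

universe u v

namespace Groth.Agent.GalDescX

open TensorProduct Matrix

variable {k : Type u} [Field k] {K : Type v} [Field K] [Algebra k K] [FiniteDimensional k K]
  [IsGalois k K]

/-- Hilbert 90 for `GL n`: a cocycle of invertible matrices is split. -/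
theorem exists_gl_of_cocycle (n : ℕ) (B : (K ≃ₐ[k] K) → GL (Fin n) K)
    (hB : ∀ σ τ, (B σ : Matrix (Fin n) (Fin n) K) * (B τ : Matrix (Fin n) (Fin n) K).map σ =
      (B (σ * τ) : Matrix (Fin n) (Fin n) K)) :
    ∃ P : GL (Fin n) K, ∀ σ : K ≃ₐ[k] K, (B σ : Matrix (Fin n) (Fin n) K) *
      (P : Matrix (Fin n) (Fin n) K).map σ = (P : Matrix (Fin n) (Fin n) K) := by
  classical
  have hsmul : ∀ (σ : K ≃ₐ[k] K) (v : Fin n → K), σ • v = σ ∘ v := fun _ _ => rfl
  let L : GL (Fin n) K → ((Fin n → K) ≃ₗ[K] (Fin n → K)) := fun M =>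
    LinearMap.GeneralLinearGroup.generalLinearEquiv K _ (Matrix.GeneralLinearGroup.toLin M)
  have hL : ∀ M v, L M v = (M : Matrix (Fin n) (Fin n) K).mulVec v := fun M v => by
    simp [L, Matrix.GeneralLinearGroup.toLin]
  let a : GpH1.OneCocycle (K ≃ₐ[k] K) ((Fin n → K) ≃ₗ[K] (Fin n → K)) :=
    ⟨fun σ => L (B σ), fun σ τ => LinearEquiv.ext fun v => by
      show L (B (σ * τ)) v = L (B σ) (σ • L (B τ) (σ⁻¹ • v))
      rw [hL, hL, hL, hsmul, hsmul, ← hB, ← Matrix.mulVec_mulVec]
      congr 1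
      funext i
      simp only [Function.comp_apply, Matrix.mulVec, dotProduct, map_sum, map_mul, Matrix.map_apply]
      refine Finset.sum_congr rfl fun j _ => ?_
      rw [show σ (σ⁻¹ (v j)) = v j from AlgEquiv.apply_symm_apply σ (v j)]⟩
  let ι : GalDesc.fixedSub a →ₗ[k] (Fin n → K) := (GalDesc.fixedSub a).subtype
  obtain ⟨g, hg, -⟩ := exists_trivialisation a ι Subtype.val_injective
    (Submodule.range_subtype _)
  let b₀ := Module.Free.chooseBasis k (GalDesc.fixedSub a)
  let b₁ : Module.Basis _ K (Fin n → K) := (b₀.baseChange K).map g.symm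
  let e : Module.Free.ChooseBasisIndex k (GalDesc.fixedSub a) ≃ Fin n :=
    b₁.indexEquiv (Pi.basisFun K (Fin n))
  let b := b₁.reindex e
  have hb : ∀ j, b j ∈ GalDesc.fixedSub a := fun j => by
    have : b j = (b₀ (e.symm j) : Fin n → K) := by
      simp [b, b₁, hg, ι]
    rw [this]
    exact (b₀ (e.symm j)).2
  let P : Matrix (Fin n) (Fin n) K := (Pi.basisFun K (Fin n)).toMatrix b
  have hP : IsUnit P := by
    have : Invertible P := (Pi.basisFun K (Fin n)).invertibleToMatrix b
    exact isUnit_of_invertible P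
  refine ⟨hP.unit, fun σ => ?_⟩
  rw [IsUnit.unit_spec]
  ext i j
  have h := congrFun ((GalDesc.mem_fixedSub a _).1 (hb j) σ) i
  change (L (B σ)) (σ • b j) i = b j i at h
  rw [hL, hsmul] at h
  simpa [P, Matrix.mul_apply, Matrix.mulVec, dotProduct, Module.Basis.toMatrix_apply] using h

end Groth.Agent.GalDescX
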