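import Groth.Agent.GalDescX.Basic
import Groth.Prelude.Def_GalDesc
import Mathlib.RingTheory.TensorProduct.Maps

/-!
Twisted forms: fixed vectors of base changes, twisted actions, cohomologous cocycles.
-/

universe u v w w' w''

namespace Groth.Agent.GalDescX

open TensorProduct

variable {k : Type u} [Field k] {K : Type v} [Field K] [Algebra k K]

lemma repr_smul {W : Type w} [AddCommGroup W] [Module k W] {ι : Type w'} (b : Module.Basis ι k W)
    (σ : K ≃ₐ[k] K) (t : K ⊗[k] W) (i : ι) :
    (b.baseChange K).repr (σ • t) i = σ ((b.baseChange K).repr t i) := by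
  induction t with
  | zero => simp
  | tmul c w => simp [TensorProduct.smul_tmul', Algebra.smul_def]
  | add x y hx hy => rw [smul_add, map_add, map_add, Finsupp.add_apply, Finsupp.add_apply, hx, hy, map_add]

variable [FiniteDimensional k K] [IsGalois k K]

/-- The fixed vectors of a base change are the original vectors. -/
theorem exists_one_tmul {W : Type w} [AddCommGroup W] [Module k W] (t : K ⊗[k] W)
    (ht : ∀ σ : K ≃ₐ[k] K, σ • t = t) : ∃ w : W, (1 : K) ⊗ₜ[k] w = t := by
  classical
  let b := Module.Free.chooseBasis k W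
  have h : ∀ i, ∃ r : k, algebraMap k K r = (b.baseChange K).repr t i := fun i =>
    IntermediateField.mem_bot.1 ((IsGalois.mem_bot_iff_fixed _).2 fun σ => by
      rw [← repr_smul b σ t i, ht])
  choose r hr using h
  have e : ∀ j, (1 : K) ⊗ₜ[k] (r j • b j) = algebraMap k K (r j) • b.baseChange K j := fun j => by
    rw [TensorProduct.tmul_smul, algebraMap_smul, Module.Basis.baseChange_apply]
  refine ⟨((b.baseChange K).repr t).sum fun i _ => r i • b i, (b.baseChange K).repr.injective ?_⟩
  ext i
  rw [Finsupp.sum, TensorProduct.tmul_sum, map_sum, Finsupp.finsetSum_apply]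
  rw [Finset.sum_eq_single i]
  · rw [e, map_smul, Module.Basis.repr_self]
    simp [← hr i, Algebra.smul_def]
  · intro j _ hji
    rw [e, map_smul, Module.Basis.repr_self]
    simp [hji]
  · intro hi
    have h0 := Finsupp.notMem_support_iff.1 hi
    have : r i = 0 := (algebraMap k K).injective (by rw [hr i, h0, map_zero])
    rw [e, this, map_zero, zero_smul, map_zero, Finsupp.zero_apply]

omit [FiniteDimensional k K] [IsGalois k K] in
lemma one_tmul_injective {W : Type w} [AddCommGroup W] [Module k W] :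
    Function.Injective fun w : W => (1 : K) ⊗ₜ[k] w := by
  intro x y h
  obtain ⟨ψ, hψ⟩ := LinearMap.exists_leftInverse_of_injective (Algebra.linearMap k K)
    (LinearMap.ker_eq_bot.2 (algebraMap k K).injective)
  have hψ1 : ψ 1 = 1 := by simpa using LinearMap.congr_fun hψ 1
  simpa [hψ1] using congrArg (fun t => TensorProduct.lid k W (LinearMap.rTensor W ψ t)) h

omit [FiniteDimensional k K] [IsGalois k K] in
lemma smul_one_tmul {W : Type w} [AddCommGroup W] [Module k W] (σ : K ≃ₐ[k] K) (w : W) :
    σ • ((1 : K) ⊗ₜ[k] w) = (1 : K) ⊗ₜ[k] w := by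
  rw [TensorProduct.smul_tmul', AlgEquiv.smul_def, map_one]

/-- An equivariant isomorphism of base changes comes from an isomorphism. -/
theorem exists_descend {W : Type w} [AddCommGroup W] [Module k W] {W' : Type w'} [AddCommGroup W']
    [Module k W'] (h : K ⊗[k] W ≃ₗ[K] K ⊗[k] W')
    (hh : ∀ (σ : K ≃ₐ[k] K) (x : K ⊗[k] W), h (σ • x) = σ • h x) :
    ∃ e : W ≃ₗ[k] W', ∀ w, h ((1 : K) ⊗ₜ[k] w) = (1 : K) ⊗ₜ[k] e w := by
  have h1 : ∀ w, ∃ w', (1 : K) ⊗ₜ[k] w' = h ((1 : K) ⊗ₜ[k] w) := fun w =>
    exists_one_tmul _ fun σ => by rw [← hh, smul_one_tmul]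
  have h2 : ∀ w', ∃ w, (1 : K) ⊗ₜ[k] w = h.symm ((1 : K) ⊗ₜ[k] w') := fun w' =>
    exists_one_tmul _ fun σ => h.injective (by rw [hh, h.apply_symm_apply, smul_one_tmul])
  choose f hf using h1
  choose g hg using h2
  refine ⟨{ toFun := f
            map_add' := fun x y => one_tmul_injective (k := k) (K := K) (W := W') ?_
            map_smul' := fun r x => one_tmul_injective (k := k) (K := K) (W := W') ?_
            invFun := g
            left_inv := fun x => one_tmul_injective (k := k) (K := K) (W := W) ?_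
            right_inv := fun x => one_tmul_injective (k := k) (K := K) (W := W') ?_ }, fun w => (hf w).symm⟩
  · simp [TensorProduct.tmul_add, hf]
  · simp only [RingHom.id_apply, TensorProduct.tmul_smul, hf]
    exact (h.toLinearMap.restrictScalars k).map_smul r _
  · show (1 : K) ⊗ₜ[k] g (f x) = 1 ⊗ₜ x
    rw [hg, hf, LinearEquiv.symm_apply_apply]
  · show (1 : K) ⊗ₜ[k] f (g x) = 1 ⊗ₜ x
    rw [hf, hg, LinearEquiv.apply_symm_apply]

omit [FiniteDimensional k K] [IsGalois k K] in
/-- Cohomologous cocycles of trivialisations are the same as equivariant comparisons. -/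
theorem equivariant_iff {M : Type w} {N : Type w'} {N' : Type w''} [MulAction (K ≃ₐ[k] K) M]
    [MulAction (K ≃ₐ[k] K) N] [MulAction (K ≃ₐ[k] K) N'] (g : M ≃ N) (g' : M ≃ N') (c : M ≃ M) :
    (∀ (σ : K ≃ₐ[k] K) (x : M),
      g.symm (σ • g (σ⁻¹ • x)) = c.symm (g'.symm (σ • g' (c (σ⁻¹ • x))))) ↔
    ∀ (σ : K ≃ₐ[k] K) (y : N), g' (c (g.symm (σ • y))) = σ • g' (c (g.symm y)) := by
  constructor
  · intro h σ y
    have := h σ (σ • g.symm y)
    rw [inv_smul_smul, g.apply_symm_apply] at this
    rw [this, c.apply_symm_apply, g'.apply_symm_apply]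
  · intro h σ x
    have := h σ (g (σ⁻¹ • x))
    rw [g.symm_apply_apply] at this
    rw [← this, g'.symm_apply_apply, c.symm_apply_apply]

section Twisted

variable {M : Type w} [AddCommGroup M] [Module K M] [Module k M] [IsScalarTower k K M]
  [DistribMulAction (K ≃ₐ[k] K) M] [SMulDistribClass (K ≃ₐ[k] K) K M]
  (a : GpH1.OneCocycle (K ≃ₐ[k] K) (M ≃ₗ[K] M))

omit [Module k M] [IsScalarTower k K M] [FiniteDimensional k K] [IsGalois k K] in
lemma cocycle_mul_apply (σ τ : K ≃ₐ[k] K) (x : M) :
    a (σ * τ) x = a σ (σ • a τ (σ⁻¹ • x)) := by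
  rw [a.2 σ τ]; rfl

omit [Module k M] [IsScalarTower k K M] [FiniteDimensional k K] [IsGalois k K] in
lemma cocycle_one_apply (x : M) : a 1 x = x := by
  have := cocycle_mul_apply a 1 1 x
  rw [mul_one, inv_one, one_smul, one_smul] at this
  exact ((a 1).injective this).symm

/-- `M` with the action twisted by `a`. -/
def Tw (_a : GpH1.OneCocycle (K ≃ₐ[k] K) (M ≃ₗ[K] M)) : Type w := M

instance : AddCommGroup (Tw a) := inferInstanceAs (AddCommGroup M)
instance : Module K (Tw a) := inferInstanceAs (Module K M)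
instance : Module k (Tw a) := inferInstanceAs (Module k M)
instance : IsScalarTower k K (Tw a) := inferInstanceAs (IsScalarTower k K M)

/-- The identification. -/
def toTw : M ≃ₗ[K] Tw a := LinearEquiv.refl K M

noncomputable instance : DistribMulAction (K ≃ₐ[k] K) (Tw a) where
  smul σ x := toTw a (a σ (σ • (toTw a).symm x))
  one_smul x := by
    show toTw a (a 1 ((1 : K ≃ₐ[k] K) • (toTw a).symm x)) = x
    rw [cocycle_one_apply, one_smul, LinearEquiv.apply_symm_apply]
  mul_smul σ τ x := by
    show toTw a (a (σ * τ) ((σ * τ) • (toTw a).symm x)) =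
      toTw a (a σ (σ • (toTw a).symm (toTw a (a τ (τ • (toTw a).symm x)))))
    rw [LinearEquiv.symm_apply_apply, cocycle_mul_apply, mul_smul, inv_smul_smul]
  smul_zero σ := by
    show toTw a (a σ (σ • (toTw a).symm 0)) = 0
    simp
  smul_add σ x y := by
    show toTw a (a σ (σ • (toTw a).symm (x + y))) =
      toTw a (a σ (σ • (toTw a).symm x)) + toTw a (a σ (σ • (toTw a).symm y))
    rw [map_add, smul_add, map_add, map_add]

omit [Module k M] [IsScalarTower k K M] [FiniteDimensional k K] [IsGalois k K] in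
lemma tw_semilinear (σ : K ≃ₐ[k] K) (c : K) (x : Tw a) : σ • (c • x) = σ c • σ • x := by
  show toTw a (a σ (σ • (toTw a).symm (c • x))) = σ c • toTw a (a σ (σ • (toTw a).symm x))
  rw [LinearEquiv.map_smul, smul_distrib_smul σ c, LinearEquiv.map_smul, LinearEquiv.map_smul]
  rfl

/-- The fixed space of a twisted action is a form. -/
theorem bijective_of_range_eq {W : Type w'} [AddCommGroup W] [Module k W] (ι : W →ₗ[k] M)
    (hι : Function.Injective ι) (hW : LinearMap.range ι = GalDesc.fixedSub a) :
    Function.Bijective (LinearMap.liftBaseChange K ι) := by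
  have hmem : ∀ w, toTw a (ι w) ∈ fixedSubmodule (tw_semilinear a) := fun w σ => by
    show toTw a (a σ (σ • (toTw a).symm (toTw a (ι w)))) = toTw a (ι w)
    rw [LinearEquiv.symm_apply_apply,
      (GalDesc.mem_fixedSub a _).1 (hW ▸ LinearMap.mem_range_self ι w) σ]
  let f : W →ₗ[k] fixedSubmodule (tw_semilinear a) :=
    ((toTw a).toLinearMap.restrictScalars k ∘ₗ ι).codRestrict _ hmem
  have hf : Function.Bijective f := by
    refine ⟨fun x y h => hι ((toTw a).injective (congrArg Subtype.val h)), fun x => ?_⟩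
    obtain ⟨w, hw⟩ : (toTw a).symm (x : Tw a) ∈ LinearMap.range ι := by
      rw [hW]
      intro σ
      exact (toTw a).injective ((x.2 σ).trans (LinearEquiv.apply_symm_apply _ _).symm)
    exact ⟨w, Subtype.ext (by show toTw a (ι w) = _; rw [hw, LinearEquiv.apply_symm_apply])⟩
  let φ := LinearEquiv.ofBijective f hf
  have key : ⇑(LinearMap.liftBaseChange K ι) = (toTw a).symm ∘
      descentEquiv (tw_semilinear a) ∘ φ.baseChange k K := by
    funext t
    induction t with
    | zero => simp
    | tmul c w => simp [φ, f]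
    | add x y hx hy => simp only [Function.comp_apply] at hx hy ⊢; simp [hx, hy]
  rw [key]
  exact (toTw a).symm.bijective.comp ((descentEquiv _).bijective.comp (φ.baseChange k K).bijective)

/-- Isomorphism attached to a fixed space. -/
theorem exists_trivialisation {W : Type w'} [AddCommGroup W] [Module k W] (ι : W →ₗ[k] M)
    (hι : Function.Injective ι) (hW : LinearMap.range ι = GalDesc.fixedSub a) :
    ∃ g : M ≃ₗ[K] K ⊗[k] W, (∀ (c : K) (x : W), g.symm (c ⊗ₜ[k] x) = c • ι x) ∧
      GalDesc.cocycle k g = a := by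
  refine ⟨(LinearEquiv.ofBijective _ (bijective_of_range_eq a ι hι hW)).symm,
    fun c x => by simp, ?_⟩
  refine GpH1.OneCocycle.ext fun σ => LinearEquiv.ext fun x => ?_
  obtain ⟨y, rfl⟩ : ∃ y, σ • LinearMap.liftBaseChange K ι y = x := by
    obtain ⟨y, hy⟩ := (bijective_of_range_eq a ι hι hW).2 (σ⁻¹ • x)
    exact ⟨y, by rw [hy, smul_inv_smul]⟩
  rw [GalDesc.cocycle_apply, inv_smul_smul, LinearEquiv.symm_symm, LinearEquiv.ofBijective_apply,
    LinearEquiv.ofBijective_symm_apply_apply]
  induction y with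
  | zero => simp
  | tmul c w =>
    have := (GalDesc.mem_fixedSub a _).1 (hW ▸ LinearMap.mem_range_self ι w) σ
    simp [TensorProduct.smul_tmul', smul_distrib_smul σ c, this]
  | add y z hy hz => simp [smul_add, hy, hz]

end Twisted

end Groth.Agent.GalDescX
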