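import Mathlib.FieldTheory.Galois.Basic
import Mathlib.FieldTheory.Fixed
import Mathlib.LinearAlgebra.Dual.Lemmas
import Mathlib.LinearAlgebra.TensorProduct.Tower
import Mathlib.LinearAlgebra.TensorProduct.Basis
import Mathlib.RingTheory.Trace.Basic

/-!
Galois descent for vector spaces with a semilinear action.
-/

universe u v w

namespace Groth.Agent.GalDescX

open TensorProduct

variable (k : Type u) [Field k] (K : Type v) [Field K] [Algebra k K] [FiniteDimensional k K]

/-- The conjugation vectors span. -/
theorem span_conjugates :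
    Submodule.span K (Set.range fun (x : K) => fun σ : K ≃ₐ[k] K => σ x) = ⊤ := by
  classical
  by_contra hne
  obtain ⟨f, hf0, hf⟩ :=
    Submodule.exists_dual_map_eq_bot_of_lt_top (lt_top_iff_ne_top.2 hne) inferInstance
  have hinj : Function.Injective fun σ : K ≃ₐ[k] K => (σ : K →* K) := fun σ τ h =>
    AlgEquiv.ext fun x => DFunLike.congr_fun h x
  have hli := (linearIndependent_monoidHom K K).comp _ hinj
  have h0 : ∀ σ, f (Pi.single σ 1) = 0 := by
    refine Fintype.linearIndependent_iff.1 hli _ ?_
    funext x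
    have hx : f (fun σ : K ≃ₐ[k] K => σ x) = 0 := by
      have := Submodule.mem_map_of_mem (f := f) (Submodule.subset_span
        (R := K) (s := Set.range fun (x : K) => fun σ : K ≃ₐ[k] K => σ x) ⟨x, rfl⟩)
      rw [hf] at this
      simpa using this
    rw [Finset.sum_apply, Pi.zero_apply, ← hx]
    conv_rhs => rw [pi_eq_sum_univ' (fun σ : K ≃ₐ[k] K => σ x)]
    simp only [map_sum, map_smul, smul_eq_mul, Pi.smul_apply, Function.comp_apply]
    exact Finset.sum_congr rfl fun i _ => mul_comm _ _
  apply hf0
  refine (Pi.basisFun K _).ext fun i => ?_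
  simpa using h0 i

variable {k K} {V : Type w} [AddCommGroup V] [Module K V] [Module k V] [IsScalarTower k K V]
  [DistribMulAction (K ≃ₐ[k] K) V]
  (hsemi : ∀ (σ : K ≃ₐ[k] K) (c : K) (v : V), σ • (c • v) = σ c • σ • v)
include hsemi

omit [FiniteDimensional k K] in
lemma smul_base (σ : K ≃ₐ[k] K) (r : k) (v : V) : σ • (r • v) = r • σ • v := by
  rw [← algebraMap_smul K r v, hsemi, AlgEquiv.commutes, algebraMap_smul]

/-- The fixed vectors, as a subspace over the base field. -/
def fixedSubmodule : Submodule k V where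
  carrier := MulAction.fixedPoints (K ≃ₐ[k] K) V
  add_mem' {x y} hx hy σ := by rw [smul_add, hx σ, hy σ]
  zero_mem' σ := smul_zero σ
  smul_mem' r {x} hx σ := by rw [smul_base hsemi, hx σ]

omit [Module k V] [IsScalarTower k K V] in
/-- The fixed vectors span. -/
theorem span_fixedPoints :
    Submodule.span K (MulAction.fixedPoints (K ≃ₐ[k] K) V) = ⊤ := by
  classical
  refine Submodule.eq_top_iff'.2 fun v => ?_
  let T : Submodule K ((K ≃ₐ[k] K) → K) :=
    { carrier := {a | ∑ σ, a σ • σ • v ∈ Submodule.span K (MulAction.fixedPoints (K ≃ₐ[k] K) V)}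
      add_mem' := fun {a b} ha hb => by
        simpa [add_smul, Finset.sum_add_distrib] using add_mem ha hb
      zero_mem' := by simp
      smul_mem' := fun c a (ha : ∑ σ, a σ • σ • v ∈
          Submodule.span K (MulAction.fixedPoints (K ≃ₐ[k] K) V)) => by
        simpa [mul_smul, Finset.smul_sum] using Submodule.smul_mem _ c ha }
  have hT : T = ⊤ := by
    rw [eq_top_iff, ← span_conjugates k K, Submodule.span_le]
    rintro _ ⟨x, rfl⟩
    refine Submodule.subset_span fun τ => ?_
    show τ • (∑ σ : K ≃ₐ[k] K, σ x • σ • v) = ∑ σ : K ≃ₐ[k] K, σ x • σ • v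
    rw [Finset.smul_sum]
    refine Fintype.sum_equiv (Equiv.mulLeft τ) _ _ fun σ => ?_
    rw [hsemi, ← mul_smul]
    rfl
  have h1 : (Pi.single (1 : K ≃ₐ[k] K) (1 : K)) ∈ T := by rw [hT]; trivial
  have h2 : ∑ σ : K ≃ₐ[k] K, (Pi.single (1 : K ≃ₐ[k] K) (1 : K) : _ → K) σ • σ • v ∈
      Submodule.span K (MulAction.fixedPoints (K ≃ₐ[k] K) V) := h1
  rw [Finset.sum_eq_single (1 : K ≃ₐ[k] K) (fun b _ hb => by simp [hb]) (by simp)] at h2
  simpa using h2

variable [IsGalois k K]

/-- Fixed vectors independent over the base are independent over the extension. -/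
theorem linearIndependent_of_fixed {ι : Type*} (v : ι → V)
    (hv : ∀ i, v i ∈ MulAction.fixedPoints (K ≃ₐ[k] K) V) (hli : LinearIndependent k v) :
    LinearIndependent K v := by
  classical
  rw [linearIndependent_iff'] at hli ⊢
  intro s c hc i hi
  have h : ∀ d : K, Algebra.trace k K (d * c i) = 0 := fun d => by
    refine hli s (fun j => Algebra.trace k K (d * c j)) ?_ i hi
    calc ∑ j ∈ s, Algebra.trace k K (d * c j) • v j
        = ∑ j ∈ s, ∑ σ : K ≃ₐ[k] K, σ (d * c j) • v j := Finset.sum_congr rfl fun j _ => by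
          rw [← algebraMap_smul K, trace_eq_sum_automorphisms, Finset.sum_smul]
      _ = ∑ σ : K ≃ₐ[k] K, σ d • σ • ∑ j ∈ s, c j • v j := by
          rw [Finset.sum_comm]
          refine Finset.sum_congr rfl fun σ _ => ?_
          rw [Finset.smul_sum, Finset.smul_sum]
          refine Finset.sum_congr rfl fun j _ => ?_
          rw [hsemi, hv j σ, ← mul_smul, map_mul]
      _ = 0 := by simp [hc]
  exact (traceForm_nondegenerate k K).1 _ (fun d => by
    rw [Algebra.traceForm_apply, mul_comm]; exact h d)

/-- The canonical map from the base change of the fixed vectors is bijective. -/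
theorem bijective_descent :
    Function.Bijective (LinearMap.liftBaseChange K (fixedSubmodule hsemi).subtype) := by
  let b := Module.Free.chooseBasis k (fixedSubmodule hsemi)
  have hli : LinearIndependent K fun i => ((b i : fixedSubmodule hsemi) : V) :=
    linearIndependent_of_fixed hsemi _ (fun i => (b i).2)
      (b.linearIndependent.map' _ (Submodule.ker_subtype _))
  refine ⟨?_, ?_⟩
  · rw [← LinearMap.ker_eq_bot]
    refine LinearMap.ker_eq_bot.2 ((injective_iff_map_eq_zero _).2 fun t ht => ?_)
    rw [← (b.baseChange K).linearCombination_repr t] at ht ⊢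
    rw [Finsupp.apply_linearCombination] at ht
    have e : (⇑(LinearMap.liftBaseChange K (fixedSubmodule hsemi).subtype) ∘
        ⇑(Module.Basis.baseChange K b)) = fun i => ((b i : fixedSubmodule hsemi) : V) :=
      funext fun i => by simp
    rw [e] at ht
    have : ((b.baseChange K).repr t) = 0 := linearIndependent_iff.1 hli _ ht
    simp [this]
  · intro v
    have hv : v ∈ Submodule.span K (MulAction.fixedPoints (K ≃ₐ[k] K) V) := by
      rw [span_fixedPoints hsemi]; trivial
    refine Submodule.span_induction (fun x hx => ?_) ⟨0, map_zero _⟩ ?_ ?_ hv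
    · exact ⟨1 ⊗ₜ ⟨x, hx⟩, by simp⟩
    · rintro x y - - ⟨s, rfl⟩ ⟨t, rfl⟩; exact ⟨s + t, map_add _ _ _⟩
    · rintro c x - ⟨s, rfl⟩; exact ⟨c • s, map_smul _ _ _⟩

/-- Galois descent. -/
noncomputable def descentEquiv : K ⊗[k] fixedSubmodule hsemi ≃ₗ[K] V :=
  LinearEquiv.ofBijective _ (bijective_descent hsemi)

@[simp]
lemma descentEquiv_tmul (c : K) (x : fixedSubmodule hsemi) :
    descentEquiv hsemi (c ⊗ₜ x) = c • (x : V) := by
  simp [descentEquiv]

end Groth.Agent.GalDescX
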