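import Groth.Agent.GalDescX.Basic
import Groth.Agent.SGA1Q.Exists
import Groth.Agent.SGA1Q.Properties
import Groth.Agent.AmpleX.Separated
import Groth.Agent.AmpleX.Rel
import Groth.Prelude.Def_GalTw2
import Mathlib.AlgebraicGeometry.Morphisms.FlatDescent
import Groth.Prelude.Def_RelProj

/-! Galois descent of schemes with a semilinear action. -/

set_option autoImplicit false
set_option linter.style.haveILetI false
set_option linter.unusedSectionVars false
set_option backward.isDefEq.respectTransparency.types false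

universe u

open CategoryTheory CategoryTheory.Limits AlgebraicGeometry TopologicalSpace TensorProduct

namespace Groth.Agent.GalDescX

section QProj

/-- Finitely many points of a scheme quasi-projective over an affine base lie in one affine open. -/
theorem exists_affineOpen_of_finite_qproj {X S : Scheme.{u}} [IsAffine S] (f : X ⟶ S)
    (hX : RelProj.IsQuasiProjective f) {T : Set X} (hT : T.Finite) :
    ∃ U : X.Opens, IsAffineOpen U ∧ T ⊆ U := by
  obtain ⟨-, -, L, hL⟩ := hX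
  let j := (f ⁻¹ᵁ (⊤ : S.Opens)).ι
  have hA := hL.2 ⟨⊤, isAffineOpen_top S⟩
  haveI := AmpleX.isSeparated_of_isAmple hA
  obtain ⟨n, s, hs, -, ha⟩ := AmpleX.exists_finite_nhd hA (hT.preimage j.isOpenEmbedding.injective.injOn)
    (U := ⊤) (Set.subset_univ _)
  exact ⟨j ''ᵁ _, ha.image_of_isOpenImmersion j, fun x hx => ⟨⟨x, trivial⟩, hs hx, rfl⟩⟩

end QProj

section Ring

variable {k K : Type u} [Field k] [Field K] [Algebra k K] [FiniteDimensional k K] [IsGalois k K]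

/-- Galois descent for rings, as a pushout square. -/
theorem isPushout_of_semilinear {A B : CommRingCat.{u}} (sk : CommRingCat.of k ⟶ B) (sK : CommRingCat.of K ⟶ A)
    (ι : B ⟶ A) (hw : sk ≫ ι = CommRingCat.ofHom (algebraMap k K) ≫ sK)
    (T : (K ≃ₐ[k] K) → (A ⟶ A)) (hone : T 1 = 𝟙 A) (hmul : ∀ σ τ, T (σ * τ) = T τ ≫ T σ)
    (hsemi : ∀ (σ : K ≃ₐ[k] K) (c : K), T σ (sK c) = sK (σ c))
    (hinj : Function.Injective ι) (hfix : ∀ a, a ∈ Set.range ι ↔ ∀ σ, T σ a = a) :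
    IsPushout (CommRingCat.ofHom (algebraMap k K)) sk sK ι := by
  letI : Algebra K A := sK.hom.toAlgebra
  letI : Algebra k B := sk.hom.toAlgebra
  letI : Algebra k A := (sk ≫ ι).hom.toAlgebra
  haveI : IsScalarTower k K A := IsScalarTower.of_algebraMap_eq fun c => congr($hw c)
  letI : DistribMulAction (K ≃ₐ[k] K) A :=
    { smul := fun σ a => T σ a
      one_smul := fun a => by show T 1 a = a; rw [hone]; rfl
      mul_smul := fun σ τ a => by show T (σ * τ) a = T σ (T τ a); rw [hmul]; rfl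
      smul_zero := fun σ => map_zero (T σ).hom
      smul_add := fun σ => map_add (T σ).hom }
  have hs : ∀ (σ : K ≃ₐ[k] K) (c : K) (v : A), σ • (c • v) = σ c • σ • v := fun σ c v => by
    show T σ (sK c * v) = sK (σ c) * T σ v
    rw [map_mul, hsemi]
  let ιA : B →ₐ[k] A := { ι.hom with commutes' := fun _ => rfl }
  have hmem : ∀ b, ιA.toLinearMap b ∈ fixedSubmodule hs := fun b σ => (hfix _).1 ⟨b, rfl⟩ σ
  let e₀ : B ≃ₗ[k] fixedSubmodule hs := LinearEquiv.ofBijective (ιA.toLinearMap.codRestrict _ hmem)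
    ⟨fun x y h => hinj (congrArg Subtype.val h), fun a => by
      obtain ⟨b, hb⟩ := (hfix a.1).2 a.2
      exact ⟨b, Subtype.ext hb⟩⟩
  let Φ : K ⊗[k] B →ₐ[K] A := Algebra.TensorProduct.lift (Algebra.ofId K A) ιA fun _ _ => .all _ _
  have hΦ : Function.Bijective Φ := by
    have key : ⇑Φ = descentEquiv hs ∘ e₀.baseChange k K := by
      funext t
      induction t with
      | zero => simp
      | tmul c b =>
        simp only [Function.comp_apply, LinearEquiv.baseChange_tmul, descentEquiv_tmul, Φ, Algebra.TensorProduct.lift_tmul]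
        exact (Algebra.smul_def c _).symm
      | add x y hx hy => simp only [Function.comp_apply] at hx hy ⊢; simp [hx, hy]
    rw [key]
    exact (descentEquiv hs).bijective.comp (e₀.baseChange k K).bijective
  refine (CommRingCat.isPushout_tensorProduct k K B).of_iso (Iso.refl _) (Iso.refl _) (Iso.refl _)
    (RingEquiv.ofBijective Φ.toRingHom hΦ).toCommRingCatIso ?_ ?_ ?_ ?_
  · simp
  · ext; rfl
  · ext c
    exact (Algebra.TensorProduct.lift_tmul (Algebra.ofId K A) ιA (fun _ _ => .all _ _) c 1).trans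
      (by rw [map_one, mul_one]; rfl)
  · ext b
    exact (Algebra.TensorProduct.lift_tmul (Algebra.ofId K A) ιA (fun _ _ => .all _ _) 1 b).trans
      (by rw [map_one, one_mul]; rfl)

end Ring

section Scheme

variable {k K : Type u} [Field k] [Field K] [Algebra k K] [FiniteDimensional k K] [IsGalois k K]

variable {Z Y : Scheme.{u}} (ρ : (K ≃ₐ[k] K) →* Aut Z) (s : Z ⟶ Spec (CommRingCat.of K))
  (hs : ∀ σ, (ρ σ).hom ≫ s = s ≫ GalTw.specMap K σ⁻¹)

include hs in
theorem act_comp_base (σ : K ≃ₐ[k] K) : (ρ σ).hom ≫ s ≫ (SGA7.pt (K := k) K).hom = s ≫ (SGA7.pt (K := k) K).hom := by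
  rw [reassoc_of% (hs σ), GalTw.specMap_comp_pt]

include hs in
/-- The quotient of a semilinear action is a form. -/
theorem isPullback_of_isQuot {p : Z ⟶ Y} (hp : SGA1.IsQuot ρ p) (q : Y ⟶ Spec (CommRingCat.of k))
    (hq : p ≫ q = s ≫ (SGA7.pt (K := k) K).hom) : IsPullback p s q (SGA7.pt (K := k) K).hom := by
  let ψ : Z ⟶ pullback q (SGA7.pt (K := k) K).hom := pullback.lift p s hq
  suffices IsIso ψ by
    refine (IsPullback.of_hasPullback q (SGA7.pt (K := k) K).hom).of_iso (asIso ψ).symm (Iso.refl _) (Iso.refl _) (Iso.refl _) ?_ ?_ ?_ ?_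
    · rw [Iso.symm_hom, asIso_inv, IsIso.eq_inv_comp, Iso.refl_hom, Category.comp_id]
      exact pullback.lift_fst _ _ _
    · rw [Iso.symm_hom, asIso_inv, IsIso.eq_inv_comp, Iso.refl_hom, Category.comp_id]
      exact pullback.lift_snd _ _ _
    · simp
    · simp
  let π := pullback.fst q (SGA7.pt (K := k) K).hom
  refine (IsZariskiLocalAtTarget.iff_of_iSup_eq_top (P := MorphismProperty.isomorphisms Scheme.{u})
    (fun U : Y.affineOpens => π ⁻¹ᵁ U.1) ?_).mpr fun ⟨U, hU⟩ => ?_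
  · rw [← Scheme.Hom.preimage_iSup, iSup_affineOpens_eq_top Y]; rfl
  haveI := hp.affine
  have hW : IsAffineOpen (p ⁻¹ᵁ U) := hU.preimage p
  let eK := (Scheme.ΓSpecIso (CommRingCat.of K)).inv
  let ek := (Scheme.ΓSpecIso (CommRingCat.of k)).inv
  let sK : CommRingCat.of K ⟶ Γ(Z, p ⁻¹ᵁ U) := eK ≫ s.appLE ⊤ (p ⁻¹ᵁ U) (by simp)
  let sk : CommRingCat.of k ⟶ Γ(Y, U) := ek ≫ q.appLE ⊤ U (by simp)
  let T : (K ≃ₐ[k] K) → (Γ(Z, p ⁻¹ᵁ U) ⟶ Γ(Z, p ⁻¹ᵁ U)) := fun σ =>
    (ρ σ⁻¹).hom.appLE _ _ (SGA1.preimage_le_of_inv ρ p hp.inv σ⁻¹ U)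
  have hsp : ∀ σ : K ≃ₐ[k] K, eK ≫ (GalTw.specMap K σ).appTop = CommRingCat.ofHom (σ : K →+* K) ≫ eK := fun σ =>
    (Scheme.ΓSpecIso_inv_naturality (CommRingCat.ofHom (σ : K →+* K))).symm
  have hpush : IsPushout (CommRingCat.ofHom (algebraMap k K)) sk sK (p.app U) := by
    refine isPushout_of_semilinear sk sK (p.app U) ?_ T ?_ ?_ ?_ (hp.injective U) ?_
    · have e1 : sk ≫ p.app U = ek ≫ (p ≫ q).appLE ⊤ (p ⁻¹ᵁ U) (by simp) := by
        rw [Category.assoc, Scheme.Hom.app_eq_appLE, Scheme.Hom.appLE_comp_appLE]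
      have e2 : (s ≫ (SGA7.pt (K := k) K).hom).appLE ⊤ (p ⁻¹ᵁ U) (by simp) =
          (SGA7.pt (K := k) K).hom.appTop ≫ s.appLE ⊤ (p ⁻¹ᵁ U) (by simp) := Scheme.Hom.comp_appLE _ _ _ _ _
      have e3 : ek ≫ (SGA7.pt (K := k) K).hom.appTop = CommRingCat.ofHom (algebraMap k K) ≫ eK :=
        (Scheme.ΓSpecIso_inv_naturality (CommRingCat.ofHom (algebraMap k K))).symm
      rw [e1, SGA1Q.appLE_congr_hom hq (by simp) (by simp), e2, ← Category.assoc, e3, Category.assoc]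
    · show (ρ (1 : K ≃ₐ[k] K)⁻¹).hom.appLE _ _ _ = _
      simp only [inv_one, map_one]
      show (𝟙 Z : Z ⟶ Z).appLE _ _ _ = _
      rw [Scheme.Hom.appLE]
      exact (Category.id_comp _).trans (Z.presheaf.map_id _)
    · intro σ τ
      show (ρ (σ * τ)⁻¹).hom.appLE _ _ _ = _
      rw [Scheme.Hom.appLE_comp_appLE]
      simp only [mul_inv_rev, map_mul]
      rfl
    · intro σ c
      have h1 : s.appLE ⊤ (p ⁻¹ᵁ U) (by simp) ≫ T σ =
          (GalTw.specMap K σ).appTop ≫ s.appLE ⊤ (p ⁻¹ᵁ U) (by simp) := by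
        show _ ≫ (ρ σ⁻¹).hom.appLE _ _ _ = _
        rw [Scheme.Hom.appLE_comp_appLE]
        have h2 := hs σ⁻¹
        rw [inv_inv] at h2
        rw [SGA1Q.appLE_congr_hom h2]
        exact Scheme.Hom.comp_appLE _ _ _ _ _
      have h3 : sK ≫ T σ = CommRingCat.ofHom (σ : K →+* K) ≫ sK := by
        show (eK ≫ _) ≫ _ = _ ≫ eK ≫ _
        rw [Category.assoc, h1, ← Category.assoc, hsp, Category.assoc]
      exact congr($h3 c)
    · intro a
      refine (hp.range_iff U a).trans ⟨fun h σ => h σ⁻¹, fun h σ => ?_⟩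
      have := h σ⁻¹
      simp only [T, inv_inv] at this
      exact this
  have h1 : IsPullback (Spec.map (p.app U)) (Spec.map sK) (Spec.map sk) (SGA7.pt (K := k) K).hom :=
    (isPullback_SpecMap_of_isPushout _ _ _ _ hpush).flip
  have h2 : IsPullback (p ∣_ U) ((p ⁻¹ᵁ U).ι ≫ s) (U.ι ≫ q) (SGA7.pt (K := k) K).hom := by
    refine h1.of_iso hW.isoSpec.symm hU.isoSpec.symm (Iso.refl _) (Iso.refl _) ?_ ?_ ?_ ?_
    · show Spec.map (p.app U) ≫ hU.isoSpec.inv = hW.isoSpec.inv ≫ (p ∣_ U)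
      rw [← cancel_mono U.ι, Category.assoc, Category.assoc, morphismRestrict_ι, hU.isoSpec_inv_ι, hW.isoSpec_inv_ι_assoc,
        Scheme.Hom.app_eq_appLE, IsAffineOpen.SpecMap_appLE_fromSpec _ hU hW]
    · show Spec.map sK ≫ 𝟙 _ = hW.isoSpec.inv ≫ (p ⁻¹ᵁ U).ι ≫ s
      rw [Category.comp_id, hW.isoSpec_inv_ι_assoc, ← IsAffineOpen.SpecMap_appLE_fromSpec s (isAffineOpen_top _) hW (by simp)]
      simp only [sK, eK, Spec.map_comp, IsAffineOpen.fromSpec_top, Scheme.isoSpec_Spec_inv]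
    · show Spec.map sk ≫ 𝟙 _ = hU.isoSpec.inv ≫ U.ι ≫ q
      rw [Category.comp_id, hU.isoSpec_inv_ι_assoc, ← IsAffineOpen.SpecMap_appLE_fromSpec q (isAffineOpen_top _) hU (by simp)]
      simp only [sk, ek, Spec.map_comp, IsAffineOpen.fromSpec_top, Scheme.isoSpec_Spec_inv]
    · simp
  have h3 : IsPullback (π ∣_ U) ((π ⁻¹ᵁ U).ι ≫ pullback.snd q (SGA7.pt (K := k) K).hom) (U.ι ≫ q) (SGA7.pt (K := k) K).hom :=
    ((isPullback_morphismRestrict π U).flip.paste_horiz (IsPullback.of_hasPullback q (SGA7.pt (K := k) K).hom).flip).flip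
  show IsIso (ψ ∣_ (π ⁻¹ᵁ U))
  have hpre : ψ ⁻¹ᵁ (π ⁻¹ᵁ U) = p ⁻¹ᵁ U := by rw [← Scheme.Hom.comp_preimage, pullback.lift_fst]
  let m : (ψ ⁻¹ᵁ (π ⁻¹ᵁ U) : Scheme.{u}) ⟶ _ := (Z.isoOfEq hpre).hom ≫ (h2.isoIsPullback _ _ h3).hom
  have : ψ ∣_ (π ⁻¹ᵁ U) = m := by
    rw [← cancel_mono (π ⁻¹ᵁ U).ι, morphismRestrict_ι]
    apply pullback.hom_ext
    · rw [Category.assoc, pullback.lift_fst, Category.assoc, ← morphismRestrict_ι π U, Category.assoc,
        IsPullback.isoIsPullback_hom_fst_assoc, morphismRestrict_ι, Scheme.isoOfEq_hom_ι_assoc]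
    · rw [Category.assoc, pullback.lift_snd, Category.assoc, Category.assoc]
      exact ((congrArg ((Z.isoOfEq hpre).hom ≫ ·) (IsPullback.isoIsPullback_hom_snd _ _ h2 h3)).trans
        (Scheme.isoOfEq_hom_ι_assoc Z hpre s)).symm
  rw [this]
  infer_instance

include hs in
/-- Galois descent of schemes. -/
theorem exists_descent (hρ : ∀ z : Z, ∃ U : Z.Opens, IsAffineOpen U ∧ ∀ σ, (ρ σ).hom z ∈ U) :
    ∃ (Y : Scheme.{u}) (p : Z ⟶ Y) (q : Y ⟶ Spec (CommRingCat.of k)), SGA1.IsQuot ρ p ∧ IsPullback p s q (SGA7.pt (K := k) K).hom := by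
  obtain ⟨Y, p, hp⟩ := SGA1Q.exists_quotient ρ hρ
  obtain ⟨q, hq, -⟩ := SGA1Q.desc_existsUnique_isQuot hp (s ≫ (SGA7.pt (K := k) K).hom) (act_comp_base ρ s hs)
  exact ⟨Y, p, q, hp, isPullback_of_isQuot ρ s hs hp q hq⟩

end Scheme

end Groth.Agent.GalDescX
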